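import Mathlib
import Cfsg.Agent.Lib.Helper11.UnitaryGeom
import Cfsg.Agent.S0783
import Cfsg.Agent.Lib.Helper16.PUEDefs

/-!
# S2263 PART E (helper16 farm-out) PIECE PUE-BLOCK (helper12): the block diagonal element
`diag(A, D)` of `GU_d(q)` has order `lcm (o(A), o(D))` modulo scalars when no power of `D` is a
non-trivial scalar.
-/

set_option autoImplicit false

namespace Cfsg.Agent.Helper10.PU

open Matrix Cfsg.Agent.Helper11.Herm

universe u

section fin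

variable {F : Type u} [Field F] [Fintype F] {q : ℕ}

/-- powers of a reindexed matrix -/
theorem pue_block_submatrix_pow {ι ι' : Type} [Fintype ι] [DecidableEq ι] [Fintype ι']
    [DecidableEq ι'] (e : ι ≃ ι') (B : Matrix ι ι F) (k : ℕ) :
    (B.submatrix e.symm e.symm) ^ k = (B ^ k).submatrix e.symm e.symm := by
  induction k with
  | zero => rw [pow_zero, pow_zero, Matrix.submatrix_one_equiv]
  | succ k ih => rw [pow_succ, pow_succ, ih, Matrix.submatrix_mul_equiv]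

/-- a reindexed matrix is scalar iff the matrix is -/
theorem pue_block_submatrix_eq_smul_one {ι ι' : Type} [Fintype ι] [DecidableEq ι] [Fintype ι']
    [DecidableEq ι'] (e : ι ≃ ι') (B : Matrix ι ι F) (c : F) :
    B.submatrix e.symm e.symm = c • (1 : Matrix ι' ι' F) ↔ B = c • (1 : Matrix ι ι F) := by
  have hsc : (c • (1 : Matrix ι ι F)).submatrix e.symm e.symm = c • (1 : Matrix ι' ι' F) := by
    ext i j
    simp [Matrix.submatrix_apply, Matrix.one_apply]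
  constructor
  · intro h
    rw [← hsc] at h
    have h1 := congrArg (fun X : Matrix ι' ι' F => X.submatrix e e) h
    simpa using h1
  · intro h
    rw [h, hsc]

/-- a block diagonal matrix is scalar iff both blocks are -/
theorem pue_block_fromBlocks_eq_smul_one {κ₁ κ₂ : Type} [Fintype κ₁] [DecidableEq κ₁]
    [Fintype κ₂] [DecidableEq κ₂] (A : Matrix κ₁ κ₁ F) (D : Matrix κ₂ κ₂ F) (c : F) :
    Matrix.fromBlocks A 0 0 D = c • (1 : Matrix (κ₁ ⊕ κ₂) (κ₁ ⊕ κ₂) F) ↔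
      A = c • (1 : Matrix κ₁ κ₁ F) ∧ D = c • (1 : Matrix κ₂ κ₂ F) := by
  rw [← Matrix.fromBlocks_one, Matrix.fromBlocks_smul, Matrix.fromBlocks_inj]
  simp only [smul_zero, true_and]

/-! ### PUE-BLOCK -/

theorem exists_of_blocks (hF : Fintype.card F = q ^ 2) (φ : F →+* F) (hφ : ∀ x, φ x = x ^ q)
    {κ₁ κ₂ : Type} [Fintype κ₁] [DecidableEq κ₁] [Fintype κ₂] [DecidableEq κ₂] [Nonempty κ₂]
    (d : ℕ) (hcard : Fintype.card κ₁ + Fintype.card κ₂ = d)
    (hcent : ∀ (g : ↥(Cfsg.GU d F q)) (k : ℕ),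
      (QuotientGroup.mk g : ↥(Cfsg.GU d F q) ⧸ Subgroup.center ↥(Cfsg.GU d F q)) ^ k = 1 ↔
        ∃ c : F, ((g : GL (Fin d) F) : Matrix (Fin d) (Fin d) F) ^ k = c • (1 : Matrix (Fin d) (Fin d) F))
    (A : Matrix κ₁ κ₁ F) (D : Matrix κ₂ κ₂ F) (hA : IsU φ A) (hD : IsU φ D)
    (hDu : ∀ (k : ℕ) (c : F), D ^ k = c • (1 : Matrix κ₂ κ₂ F) → c = 1) :
    ∃ g : (↥(Cfsg.GU d F q) ⧸ Subgroup.center ↥(Cfsg.GU d F q)),
      orderOf g = Nat.lcm (orderOf A) (orderOf D) := by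
  classical
  let e : κ₁ ⊕ κ₂ ≃ Fin d :=
    Fintype.equivFinOfCardEq (by rw [Fintype.card_sum]; exact hcard)
  set B : Matrix (κ₁ ⊕ κ₂) (κ₁ ⊕ κ₂) F := Matrix.fromBlocks A 0 0 D with hB
  set M : Matrix (Fin d) (Fin d) F := B.submatrix e.symm e.symm with hMdef
  have hM : IsU φ M := (isU_submatrix_iff φ e B).2 (isU_fromBlocks₂ φ A D hA hD)
  set g0 : ↥(Cfsg.GU d F q) := Cfsg.Agent.S0783.mkGU φ hφ d M hM with hg0
  have hval : ((g0 : GL (Fin d) F) : Matrix (Fin d) (Fin d) F) = M :=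
    Cfsg.Agent.S0783.mkGU_val φ hφ d M hM
  -- the key equivalence
  have key : ∀ k : ℕ,
      (QuotientGroup.mk g0 : ↥(Cfsg.GU d F q) ⧸ Subgroup.center ↥(Cfsg.GU d F q)) ^ k = 1 ↔
        A ^ k = 1 ∧ D ^ k = 1 := by
    intro k
    rw [hcent g0 k, hval, hMdef, pue_block_submatrix_pow, hB, Matrix.fromBlocks_diagonal_pow]
    constructor
    · rintro ⟨c, hc⟩
      rw [pue_block_submatrix_eq_smul_one, pue_block_fromBlocks_eq_smul_one] at hc
      have hc1 : c = 1 := hDu k c hc.2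
      rw [hc1, one_smul, one_smul] at hc
      exact hc
    · rintro ⟨h1, h2⟩
      refine ⟨1, ?_⟩
      rw [pue_block_submatrix_eq_smul_one, pue_block_fromBlocks_eq_smul_one, one_smul, one_smul]
      exact ⟨h1, h2⟩
  refine ⟨QuotientGroup.mk g0, ?_⟩
  apply Nat.dvd_antisymm
  · rw [orderOf_dvd_iff_pow_eq_one, key]
    exact ⟨orderOf_dvd_iff_pow_eq_one.1 (Nat.dvd_lcm_left _ _),
      orderOf_dvd_iff_pow_eq_one.1 (Nat.dvd_lcm_right _ _)⟩
  · have h := (key _).1 (pow_orderOf_eq_one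
      (QuotientGroup.mk g0 : ↥(Cfsg.GU d F q) ⧸ Subgroup.center ↥(Cfsg.GU d F q)))
    exact Nat.lcm_dvd (orderOf_dvd_iff_pow_eq_one.2 h.1) (orderOf_dvd_iff_pow_eq_one.2 h.2)

end fin

end Cfsg.Agent.Helper10.PU
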