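import Mathlib
import Cfsg.Agent.Lib.Helper10.PUDefs
import Cfsg.Agent.Lib.Helper11.Unitary3
import Cfsg.Agent.S0783

/-!
# S2263 part E, piece PUE-CENT: `(mk g)^k = 1` in `GU / Z(GU)` iff `g^k` is a scalar matrix.
-/

set_option autoImplicit false

namespace Cfsg.Agent.Helper10.PU

open Matrix Cfsg.Agent.Helper11.Herm

universe u

section fin

variable {F : Type u} [Field F] [Fintype F] {q : ℕ}

omit [Fintype F] in
theorem pue_cent_coe_pow (d : ℕ) (g : ↥(Cfsg.GU d F q)) (k : ℕ) :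
    (((g ^ k : ↥(Cfsg.GU d F q)) : GL (Fin d) F) : Matrix (Fin d) (Fin d) F) =
      ((g : GL (Fin d) F) : Matrix (Fin d) (Fin d) F) ^ k := by
  rw [Subgroup.coe_pow, Units.val_pow_eq_pow_val]

theorem mk_pow_eq_one_iff (hF : Fintype.card F = q ^ 2) (φ : F →+* F) (hφ : ∀ x, φ x = x ^ q)
    (d : ℕ) (hd : 1 ≤ d) (g : ↥(Cfsg.GU d F q)) (k : ℕ) :
    (QuotientGroup.mk g : ↥(Cfsg.GU d F q) ⧸ Subgroup.center ↥(Cfsg.GU d F q)) ^ k = 1 ↔
      ∃ c : F, ((g : GL (Fin d) F) : Matrix (Fin d) (Fin d) F) ^ k = c • (1 : Matrix (Fin d) (Fin d) F) := by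
  rw [← QuotientGroup.mk_pow, QuotientGroup.eq_one_iff]
  constructor
  · intro hz
    obtain ⟨l, hl0, hl1, hl2⟩ := exists_norm_one_ne_inv hF
    have hζ : l * φ l = 1 := by rw [hφ]; exact hl1
    have hζ1 : l ≠ 1 := by
      intro h
      apply hl2
      rw [h, inv_one]
    have h := Cfsg.Agent.S0783.center_scalar φ hφ d l hζ hζ1 (g ^ k) hz ⟨0, hd⟩
    rw [pue_cent_coe_pow] at h
    refine ⟨(((g : GL (Fin d) F) : Matrix (Fin d) (Fin d) F) ^ k) ⟨0, hd⟩ ⟨0, hd⟩, ?_⟩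
    rw [Matrix.smul_one_eq_diagonal]
    exact h
  · rintro ⟨c, hc⟩
    rw [Subgroup.mem_center_iff]
    intro h
    apply Subtype.ext
    apply Units.ext
    rw [Cfsg.Agent.S0783.GU_mul_val, Cfsg.Agent.S0783.GU_mul_val, pue_cent_coe_pow, hc]
    rw [Matrix.mul_smul, Matrix.smul_mul, Matrix.mul_one, Matrix.one_mul]

end fin

end Cfsg.Agent.Helper10.PU
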