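import Mathlib
import Cfsg.Agent.Lib.Helper10.PUDefs
import Cfsg.Agent.Lib.Helper11.UnitaryCong

/-!
# S2263 part E, piece PUE-CONG (helper11, for helper16): a Hermitian matrix with non-zero
determinant is congruent to the identity.
-/

set_option autoImplicit false

namespace Cfsg.Agent.Helper10.PU

open Matrix Cfsg.Agent.Helper11.Herm

universe u

section abs

variable {F : Type u} [Field F] (φ : F →+* F)

/-! ### PUE-CONG -/

theorem exists_cong (hφφ : ∀ x, φ (φ x) = x)
    (hN1 : ∀ c : F, c ≠ 0 → φ c = c → ∃ l : F, l ≠ 0 ∧ l * φ l = c)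
    (hN2 : ∃ μ : F, μ + φ μ ≠ 0)
    {ι : Type} [Fintype ι] [DecidableEq ι] (H : Matrix ι ι F) (hH : H.map φ = Hᵀ)
    (hdet : H.det ≠ 0) : ∃ P : Matrix ι ι F, Pᵀ * H * P.map φ = 1 := by
  classical
  have hdet' : IsUnit H.det := isUnit_iff_ne_zero.2 hdet
  have hHij : ∀ i j, φ (H i j) = H j i := fun i j => by
    have := congrFun (congrFun hH i) j
    simpa using this
  let h : (ι → F) → (ι → F) → F := fun u v => ∑ i, ∑ j, u i * H i j * φ (v j)
  have hal : ∀ u u' v, h (u + u') v = h u v + h u' v := by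
    intro u u' v
    simp only [h, Pi.add_apply, add_mul, Finset.sum_add_distrib]
  have hsl : ∀ (a : F) u v, h (a • u) v = a * h u v := by
    intro a u v
    simp only [h, Pi.smul_apply, smul_eq_mul, Finset.mul_sum, mul_assoc]
  have har : ∀ u v v', h u (v + v') = h u v + h u v' := by
    intro u v v'
    simp only [h, Pi.add_apply, map_add, mul_add, Finset.sum_add_distrib]
  have hsr : ∀ (a : F) u v, h u (a • v) = φ a * h u v := by
    intro a u v
    simp only [h, Pi.smul_apply, smul_eq_mul, map_mul, Finset.mul_sum]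
    refine Finset.sum_congr rfl fun i _ => Finset.sum_congr rfl fun j _ => ?_
    ring
  have hs : ∀ u v, φ (h u v) = h v u := by
    intro u v
    simp only [h, map_sum, map_mul, hφφ, hHij]
    rw [Finset.sum_comm]
    refine Finset.sum_congr rfl fun i _ => Finset.sum_congr rfl fun j _ => ?_
    ring
  have hsingle : ∀ (u : ι → F) (j : ι), h u (Pi.single j 1) = (u ᵥ* H) j := by
    intro u j
    simp only [h, Matrix.vecMul, dotProduct]
    refine Finset.sum_congr rfl fun i _ => ?_
    rw [Finset.sum_eq_single j]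
    · simp
    · intro b _ hb
      simp [Pi.single_eq_of_ne hb]
    · intro hh; exact absurd (Finset.mem_univ j) hh
  have hnd : ∀ u, (∀ v, h u v = 0) → u = 0 := by
    intro u hu
    have h0 : u ᵥ* H = 0 := by
      funext j
      rw [← hsingle, hu]
      rfl
    have h1 : u ᵥ* (H * H⁻¹) = 0 := by
      rw [← Matrix.vecMul_vecMul, h0, Matrix.zero_vecMul]
    rwa [Matrix.mul_nonsing_inv H hdet', Matrix.vecMul_one] at h1
  obtain ⟨c, hc⟩ := cong_orthonormal φ hφφ hN1 hN2 h hal hsl har hsr hs hnd (Fintype.card ι)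
    (by simp)
  let e : ι ≃ Fin (Fintype.card ι) := Fintype.equivFin ι
  refine ⟨Matrix.of fun i k => c (e k) i, ?_⟩
  ext k l
  rw [Matrix.mul_apply, Matrix.one_apply]
  have hkl : (if k = l then (1 : F) else 0) = if e k = e l then 1 else 0 := by
    simp only [e.injective.eq_iff]
  rw [hkl, ← hc (e k) (e l)]
  simp only [h, Matrix.mul_apply, Matrix.transpose_apply, Matrix.of_apply, Matrix.map_apply,
    Finset.sum_mul]
  rw [Finset.sum_comm]

end abs

end Cfsg.Agent.Helper10.PU
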