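import Mathlib
import Cfsg.Agent.Lib.Helper11.UnitaryGeom
import Cfsg.Agent.Lib.Helper16.PUEDefs

/-!
# S2263 PART E, piece PUE-CONJ (helper2 for helper16): conjugating an isometry of `H` by a
congruence `Pᵀ H P^φ = 1` gives a unitary matrix of the same order.
-/

set_option autoImplicit false

namespace Cfsg.Agent.Helper10.PU

open Matrix Cfsg.Agent.Helper11.Herm

universe u

section abs

variable {F : Type u} [Field F] (φ : F →+* F)

omit φ in
/-- powers of a conjugate -/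
theorem pue_conj_pow {ι : Type} [Fintype ι] [DecidableEq ι] (P A0 : Matrix ι ι F)
    (hP : IsUnit P.det) (k : ℕ) : (P⁻¹ * A0 * P) ^ k = P⁻¹ * A0 ^ k * P := by
  induction k with
  | zero => rw [pow_zero, pow_zero, Matrix.mul_one, Matrix.nonsing_inv_mul P hP]
  | succ k ih =>
    rw [pow_succ, ih, pow_succ]
    calc P⁻¹ * A0 ^ k * P * (P⁻¹ * A0 * P) = P⁻¹ * A0 ^ k * (P * P⁻¹) * A0 * P := by
          simp only [Matrix.mul_assoc]
      _ = P⁻¹ * (A0 ^ k * A0) * P := by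
          rw [Matrix.mul_nonsing_inv P hP, Matrix.mul_one]
          simp only [Matrix.mul_assoc]

theorem isU_conj_of_cong {ι : Type} [Fintype ι] [DecidableEq ι] (H P A0 : Matrix ι ι F)
    (hP : Pᵀ * H * P.map φ = 1) (hA0 : A0ᵀ * H * A0.map φ = H) :
    IsU φ (P⁻¹ * A0 * P) ∧ orderOf (P⁻¹ * A0 * P) = orderOf A0 := by
  -- `P` is invertible
  have hdet : IsUnit P.det := by
    have h := congrArg Matrix.det hP
    rw [Matrix.det_mul, Matrix.det_mul, Matrix.det_transpose, Matrix.det_one] at h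
    rw [isUnit_iff_ne_zero]
    intro h0
    rw [h0, zero_mul, zero_mul] at h
    exact zero_ne_one h
  have hPP : P * P⁻¹ = 1 := Matrix.mul_nonsing_inv P hdet
  have hPP' : P⁻¹ * P = 1 := Matrix.nonsing_inv_mul P hdet
  -- `R * Q = 1 = Q * R`
  have hRQ : P⁻¹.map φ * P.map φ = 1 := by
    rw [← Matrix.map_mul, hPP', Matrix.map_one _ (map_zero φ) (map_one φ)]
  have hQR : P.map φ * P⁻¹.map φ = 1 := by
    rw [← Matrix.map_mul, hPP, Matrix.map_one _ (map_zero φ) (map_one φ)]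
  -- `H = (P⁻¹)ᵀ * R`
  have hT : (P⁻¹)ᵀ * Pᵀ = 1 := by
    rw [← Matrix.transpose_mul, hPP, Matrix.transpose_one]
  have hH : H = (P⁻¹)ᵀ * P⁻¹.map φ := by
    calc H = ((P⁻¹)ᵀ * Pᵀ) * H * (P.map φ * P⁻¹.map φ) := by
          rw [hT, hQR, Matrix.one_mul, Matrix.mul_one]
      _ = (P⁻¹)ᵀ * (Pᵀ * H * P.map φ) * P⁻¹.map φ := by simp only [Matrix.mul_assoc]
      _ = (P⁻¹)ᵀ * P⁻¹.map φ := by rw [hP, Matrix.mul_one]
  constructor
  · unfold IsU
    rw [Matrix.transpose_mul, Matrix.transpose_mul, Matrix.map_mul, Matrix.map_mul]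
    calc Pᵀ * (A0ᵀ * (P⁻¹)ᵀ) * (P⁻¹.map φ * A0.map φ * P.map φ)
        = Pᵀ * (A0ᵀ * ((P⁻¹)ᵀ * P⁻¹.map φ) * A0.map φ) * P.map φ := by
          simp only [Matrix.mul_assoc]
      _ = Pᵀ * H * P.map φ := by rw [← hH, hA0]
      _ = 1 := hP
  · apply orderOf_eq_orderOf_iff.mpr
    intro k
    rw [pue_conj_pow P A0 hdet k]
    constructor
    · intro h
      calc A0 ^ k = (P * P⁻¹) * A0 ^ k * (P * P⁻¹) := by
            rw [hPP, Matrix.one_mul, Matrix.mul_one]
        _ = P * (P⁻¹ * A0 ^ k * P) * P⁻¹ := by simp only [Matrix.mul_assoc]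
        _ = 1 := by rw [h, Matrix.mul_one, hPP]
    · intro h
      rw [h, Matrix.mul_one, hPP']

end abs

end Cfsg.Agent.Helper10.PU
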