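import Mathlib
import Cfsg.Agent.Lib.Helper16.PUEDefs

/-!
# S2263 PART E piece PUE-GRAM (helper1): the Gram matrix of the twisted trace form of a field extension.
-/

set_option autoImplicit false

namespace Cfsg.Agent.Helper10.PU

open Matrix

universe u

section fld

variable {F : Type u} [Field F] (φ : F →+* F) {K : Type} [Field K] [Algebra F K]
  [FiniteDimensional F K]

omit [FiniteDimensional F K] in
/-- `τ` is `φ`-semilinear -/
theorem pue_gram_tau_smul (τ : K →+* K)
    (hτF : ∀ a : F, τ (algebraMap F K a) = algebraMap F K (φ a)) (a : F) (x : K) :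
    τ (a • x) = φ a • τ x := by
  rw [Algebra.smul_def, map_mul, hτF, ← Algebra.smul_def]

omit [FiniteDimensional F K] in
/-- the twisted trace form in coordinates -/
theorem pue_gram_form (τ : K →+* K)
    (hτF : ∀ a : F, τ (algebraMap F K a) = algebraMap F K (φ a))
    {ι : Type} [Fintype ι] [DecidableEq ι] (b : Module.Basis ι F K) (x y : K) :
    Algebra.trace F K (x * τ y) =
      ∑ i, ∑ k, b.repr x i * Algebra.trace F K (b i * τ (b k)) * φ (b.repr y k) := by
  calc Algebra.trace F K (x * τ y)
      = Algebra.trace F K ((∑ i, b.repr x i • b i) * τ (∑ k, b.repr y k • b k)) := by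
        rw [b.sum_repr, b.sum_repr]
    _ = Algebra.trace F K (∑ i, ∑ k, (b.repr x i * φ (b.repr y k)) • (b i * τ (b k))) := by
        congr 1
        rw [map_sum, Finset.sum_mul]
        refine Finset.sum_congr rfl fun i _ => ?_
        rw [Finset.mul_sum]
        refine Finset.sum_congr rfl fun k _ => ?_
        rw [pue_gram_tau_smul φ τ hτF, smul_mul_smul_comm]
    _ = ∑ i, ∑ k, (b.repr x i * φ (b.repr y k)) * Algebra.trace F K (b i * τ (b k)) := by
        rw [map_sum]
        refine Finset.sum_congr rfl fun i _ => ?_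
        rw [map_sum]
        refine Finset.sum_congr rfl fun k _ => ?_
        rw [map_smul, smul_eq_mul]
    _ = _ := by
        refine Finset.sum_congr rfl fun i _ => Finset.sum_congr rfl fun k _ => ?_
        ring

/-! ### PUE-GRAM -/

theorem exists_gram [Algebra.IsSeparable F K] (τ : K →+* K)
    (hτF : ∀ a : F, τ (algebraMap F K a) = algebraMap F K (φ a)) (hττ : ∀ x, τ (τ x) = x)
    (htr : ∀ z : K, φ (Algebra.trace F K z) = Algebra.trace F K (τ z))
    (ζ : K) (hζ : ζ * τ ζ = 1) {ι : Type} [Fintype ι] [DecidableEq ι] (b : Module.Basis ι F K) :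
    ∃ H A0 : Matrix ι ι F, H.map φ = Hᵀ ∧ H.det ≠ 0 ∧ A0ᵀ * H * A0.map φ = H ∧
      orderOf A0 = orderOf ζ := by
  have hφφ : ∀ a : F, φ (φ a) = a := by
    intro a
    apply (algebraMap F K).injective
    rw [← hτF, ← hτF, hττ]
  set H : Matrix ι ι F := Matrix.of fun i j => Algebra.trace F K (b i * τ (b j)) with hH
  have hHapp : ∀ i j, H i j = Algebra.trace F K (b i * τ (b j)) := fun i j => rfl
  have hform : ∀ x y : K, Algebra.trace F K (x * τ y) =
      ∑ i, ∑ k, b.repr x i * H i k * φ (b.repr y k) := pue_gram_form φ τ hτF b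
  refine ⟨H, Algebra.leftMulMatrix b ζ, ?_, ?_, ?_, ?_⟩
  · -- Hermitian
    ext i j
    rw [Matrix.map_apply, Matrix.transpose_apply, hHapp, hHapp, htr, map_mul, hττ, mul_comm]
  · -- `det H ≠ 0`
    intro hdet
    obtain ⟨v, hv0, hv⟩ := Matrix.exists_mulVec_eq_zero_iff.2 hdet
    set y : K := ∑ j, φ (v j) • b j with hy
    have hrepr : ∀ k, b.repr y k = φ (v k) := by
      intro k
      have := b.repr_sum_self (fun j => φ (v j))
      exact congrFun this k
    have hall : ∀ x : K, Algebra.trace F K (x * τ y) = 0 := by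
      intro x
      rw [hform]
      refine Finset.sum_eq_zero fun i _ => ?_
      have h1 : ∑ k, b.repr x i * H i k * φ (b.repr y k) = b.repr x i * ∑ k, H i k * v k := by
        rw [Finset.mul_sum]
        refine Finset.sum_congr rfl fun k _ => ?_
        rw [hrepr, hφφ, mul_assoc]
      have h2 : ∑ k, H i k * v k = 0 := congrFun hv i
      rw [h1, h2, mul_zero]
    have hτy : τ y = 0 :=
      (traceForm_nondegenerate F K).2 (τ y) fun x => by
        rw [Algebra.traceForm_apply]; exact hall x
    have hy0 : y = 0 := by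
      rw [← hττ y, hτy, map_zero]
    apply hv0
    ext k
    have h3 : φ (v k) = 0 := by
      rw [← hrepr, hy0, map_zero]; rfl
    exact (map_eq_zero φ).1 h3
  · -- invariance
    have hA : ∀ i j, Algebra.leftMulMatrix b ζ i j = b.repr (ζ * b j) i :=
      Algebra.leftMulMatrix_eq_repr_mul b ζ
    ext j l
    have h1 := hform (ζ * b j) (ζ * b l)
    have h2 : ζ * b j * τ (ζ * b l) = b j * τ (b l) := by
      rw [map_mul]
      calc ζ * b j * (τ ζ * τ (b l)) = (ζ * τ ζ) * (b j * τ (b l)) := by ring
        _ = b j * τ (b l) := by rw [hζ, one_mul]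
    rw [h2] at h1
    rw [hHapp j l, h1, Matrix.mul_apply, Finset.sum_comm]
    refine Finset.sum_congr rfl fun k _ => ?_
    rw [Matrix.mul_apply, Finset.sum_mul]
    refine Finset.sum_congr rfl fun i _ => ?_
    rw [Matrix.transpose_apply, Matrix.map_apply, hA, hA]
  · exact orderOf_injective
      ((Algebra.leftMulMatrix b : K →ₐ[F] Matrix ι ι F) : K →* Matrix ι ι F)
      (by intro x y hxy; exact Algebra.leftMulMatrix_injective b hxy) ζ

end fld

end Cfsg.Agent.Helper10.PU
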