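import Mathlib
import Cfsg.Agent.Lib.Helper16.PUEDefs

/-!
# S2263 PART E piece PUE-HYP (helper1): the hyperbolic block.
-/

set_option autoImplicit false
set_option linter.unusedSimpArgs false

namespace Cfsg.Agent.Helper10.PU

open Matrix

universe u

section abs

variable {F : Type u} [Field F] (φ : F →+* F)

/-- `S ↦ diag(S, ((S^φ)ᵀ)⁻¹)` is a monoid homomorphism -/
noncomputable def pue_hyp_hom (κ : Type) [Fintype κ] [DecidableEq κ] :
    Matrix κ κ F →* Matrix (κ ⊕ κ) (κ ⊕ κ) F where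
  toFun S := hypEmb φ S
  map_one' := by
    unfold hypEmb
    rw [Matrix.map_one φ (map_zero φ) (map_one φ), transpose_one, inv_one, fromBlocks_one]
  map_mul' S T := by
    unfold hypEmb
    rw [fromBlocks_multiply]
    simp only [Matrix.mul_zero, Matrix.zero_mul, add_zero, zero_add]
    rw [Matrix.map_mul, transpose_mul, Matrix.mul_inv_rev]

theorem pue_hyp_hom_injective (κ : Type) [Fintype κ] [DecidableEq κ] :
    Function.Injective (pue_hyp_hom φ κ) := by
  intro S T h
  have h1 : hypEmb φ S = hypEmb φ T := h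
  unfold hypEmb at h1
  exact (fromBlocks_inj.1 h1).1

/-! ### PUE-HYP -/

theorem hyp_block (hφφ : ∀ x, φ (φ x) = x) {κ : Type} [Fintype κ] [DecidableEq κ]
    (S : Matrix κ κ F) (hS : S.det ≠ 0) :
    (Jhyp F κ).map φ = (Jhyp F κ)ᵀ ∧ (Jhyp F κ).det ≠ 0 ∧
    (hypEmb φ S)ᵀ * Jhyp F κ * (hypEmb φ S).map φ = Jhyp F κ ∧
    orderOf (hypEmb φ S) = orderOf S := by
  refine ⟨?_, ?_, ?_, ?_⟩
  · unfold Jhyp
    rw [fromBlocks_map, fromBlocks_transpose, Matrix.map_zero _ (map_zero φ),
      Matrix.map_one φ (map_zero φ) (map_one φ), transpose_zero, transpose_one]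
  · have hJJ : Jhyp F κ * Jhyp F κ = 1 := by
      unfold Jhyp
      rw [fromBlocks_multiply]
      simp only [Matrix.mul_zero, Matrix.zero_mul, add_zero, zero_add, Matrix.mul_one,
        fromBlocks_one]
    intro h0
    have := congrArg Matrix.det hJJ
    rw [Matrix.det_mul, h0, zero_mul, Matrix.det_one] at this
    exact zero_ne_one this
  · -- the isometry property
    have hdetSφ : (S.map φ).det ≠ 0 := by
      have h1 : (S.map φ).det = φ S.det := by
        rw [RingHom.map_det]; rfl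
      rw [h1]
      exact (map_ne_zero φ).2 hS
    have hunitSφ : IsUnit (S.map φ).det := isUnit_iff_ne_zero.2 hdetSφ
    have hdetX : ((S.map φ)ᵀ).det ≠ 0 := by rw [det_transpose]; exact hdetSφ
    have hunitX : IsUnit ((S.map φ)ᵀ).det := isUnit_iff_ne_zero.2 hdetX
    -- `(X⁻¹)ᵀ * S^φ = 1`
    have h1 : (((S.map φ)ᵀ)⁻¹)ᵀ * S.map φ = 1 := by
      rw [transpose_nonsing_inv, transpose_transpose, Matrix.nonsing_inv_mul _ hunitSφ]
    -- `Sᵀ * (X⁻¹)^φ = 1`
    have hXφ : ((S.map φ)ᵀ).map φ = Sᵀ := by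
      ext i j
      simp only [map_apply, transpose_apply, hφφ]
    have h2 : Sᵀ * (((S.map φ)ᵀ)⁻¹).map φ = 1 := by
      rw [mul_eq_one_comm, ← hXφ, ← Matrix.map_mul, Matrix.nonsing_inv_mul _ hunitX,
        Matrix.map_one φ (map_zero φ) (map_one φ)]
    unfold hypEmb Jhyp
    rw [fromBlocks_transpose, fromBlocks_map, fromBlocks_multiply, fromBlocks_multiply]
    simp only [Matrix.mul_zero, Matrix.zero_mul, add_zero, zero_add, Matrix.mul_one,
      transpose_zero, Matrix.map_zero _ (map_zero φ)]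
    rw [h1, h2]
  · exact orderOf_injective (pue_hyp_hom φ κ) (pue_hyp_hom_injective φ κ) S

end abs

end Cfsg.Agent.Helper10.PU
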