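import Mathlib
import Cfsg.Agent.Lib.Helper16.PUEDefs

/-! PUE-ONB (S2263 part E, sub-design helper16; by helper27): orthonormal bases of nondegenerate
Hermitian forms. -/

set_option autoImplicit false
set_option linter.unusedVariables false

namespace Cfsg.Agent.Helper10.PU

open Matrix

universe u

section abs

variable {F : Type u} [Field F] (φ : F →+* F)

section aux

variable {φ} {V : Type u} [AddCommGroup V] [Module F V] {B : V → V → F}

theorem pue_onb_add_right (hB : HForm φ V B) (x y y' : V) : B x (y + y') = B x y + B x y' := by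
  rw [← hB.herm (y + y') x, hB.add_left, map_add, hB.herm, hB.herm]

theorem pue_onb_smul_right (hB : HForm φ V B) (a : F) (x y : V) :
    B x (a • y) = φ a * B x y := by
  rw [← hB.herm (a • y) x, hB.smul_left, map_mul, hB.herm]

theorem pue_onb_sub_left (hB : HForm φ V B) (u u' v : V) : B (u - u') v = B u v - B u' v := by
  have h := hB.add_left (u - u') u' v
  rw [sub_add_cancel] at h
  rw [h]
  ring

theorem pue_onb_exists_ne (hB : HForm φ V B) (hN2 : ∃ μ : F, μ + φ μ ≠ 0) (u : V) (hu : u ≠ 0) :
    ∃ v : V, B v v ≠ 0 := by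
  by_contra hall
  push Not at hall
  obtain ⟨v, hv⟩ : ∃ v, B u v ≠ 0 := by
    by_contra h
    push Not at h
    exact hu (hB.nondeg u h)
  obtain ⟨μ, hμ⟩ := hN2
  apply hμ
  have e1 : B ((μ / B u v) • u) v = μ := by
    rw [hB.smul_left]
    exact div_mul_cancel₀ μ hv
  have e2 : B v ((μ / B u v) • u) = φ μ := by
    rw [← hB.herm ((μ / B u v) • u) v, e1]
  have e3 : B ((μ / B u v) • u) ((μ / B u v) • u) = 0 := hall _
  have e4 : B v v = 0 := hall v
  have key := hall ((μ / B u v) • u + v)
  rw [hB.add_left, pue_onb_add_right hB, pue_onb_add_right hB, e1, e2, e3, e4] at key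
  simpa using key

end aux

/-! ### PUE-ONB -/

theorem exists_onb (hφφ : ∀ x, φ (φ x) = x)
    (hN1 : ∀ c : F, c ≠ 0 → φ c = c → ∃ l : F, l ≠ 0 ∧ l * φ l = c)
    (hN2 : ∃ μ : F, μ + φ μ ≠ 0) :
    ∀ (n : ℕ) (V : Type u) [AddCommGroup V] [Module F V] [FiniteDimensional F V] (B : V → V → F),
      HForm φ V B → Module.finrank F V = n →
      ∃ e : Fin n → V, ∀ i j, B (e i) (e j) = if i = j then 1 else 0 := by
  intro n
  induction n with
  | zero =>
    intro V _ _ _ B _ _
    exact ⟨Fin.elim0, fun i => i.elim0⟩
  | succ n ih =>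
    intro V _ _ _ B hB hfin
    have hpos : 0 < Module.finrank F V := by omega
    obtain ⟨u, hu⟩ := Module.finrank_pos_iff_exists_ne_zero.mp hpos
    obtain ⟨v, hv⟩ := pue_onb_exists_ne hB hN2 u hu
    obtain ⟨l, hl0, hl⟩ := hN1 (B v v) hv (hB.herm v v)
    have hφl : φ l ≠ 0 := (map_ne_zero φ).mpr hl0
    obtain ⟨w, hww⟩ : ∃ w : V, B w w = 1 := by
      refine ⟨l⁻¹ • v, ?_⟩
      rw [hB.smul_left, pue_onb_smul_right hB, map_inv₀, ← hl]
      field_simp
    let f : V →ₗ[F] F :=
      { toFun := fun x => B x w
        map_add' := fun x y => hB.add_left x y w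
        map_smul' := fun a x => by simpa using hB.smul_left a x w }
    have hfw : ∀ x, f x = B x w := fun x => rfl
    have hsurj : Function.Surjective f := fun c =>
      ⟨c • w, by rw [hfw, hB.smul_left, hww, mul_one]⟩
    have hker : Module.finrank F (LinearMap.ker f) = n := by
      have h1 := LinearMap.finrank_range_add_finrank_ker f
      rw [LinearMap.range_eq_top.mpr hsurj, finrank_top, Module.finrank_self, hfin] at h1
      omega
    have hmemW : ∀ x : V, x ∈ LinearMap.ker f ↔ B x w = 0 := fun x => LinearMap.mem_ker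
    let BW : LinearMap.ker f → LinearMap.ker f → F := fun x y => B x.1 y.1
    have hBW : HForm φ (LinearMap.ker f) BW :=
      { add_left := fun x x' y => hB.add_left x.1 x'.1 y.1
        smul_left := fun a x y => hB.smul_left a x.1 y.1
        herm := fun x y => hB.herm x.1 y.1
        nondeg := by
          intro x hx
          apply Subtype.ext
          apply hB.nondeg
          intro y
          have hy' : y - (B y w) • w ∈ LinearMap.ker f := by
            rw [hmemW, pue_onb_sub_left hB, hB.smul_left, hww, mul_one, sub_self]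
          have h1 : B x.1 (y - (B y w) • w) = 0 := hx ⟨_, hy'⟩
          have h2 : B x.1 w = 0 := (hmemW x.1).mp x.2
          have h4 : B x.1 ((y - (B y w) • w) + (B y w) • w) = 0 := by
            rw [pue_onb_add_right hB, pue_onb_smul_right hB, h2, mul_zero, add_zero]
            exact h1
          rwa [sub_add_cancel] at h4 }
    obtain ⟨e', he'⟩ := ih (LinearMap.ker f) BW hBW hker
    refine ⟨Fin.cons w (fun i => (e' i).1), ?_⟩
    intro i j
    refine Fin.cases ?_ (fun i' => ?_) i <;> refine Fin.cases ?_ (fun j' => ?_) j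
    · simp [hww]
    · have h1 : B (e' j').1 w = 0 := (hmemW _).mp (e' j').2
      have h2 : B w (e' j').1 = 0 := by rw [← hB.herm, h1, map_zero]
      simp only [Fin.cons_zero, Fin.cons_succ, h2]
      rw [if_neg (Fin.succ_ne_zero j').symm]
    · have h1 : B (e' i').1 w = 0 := (hmemW _).mp (e' i').2
      simp only [Fin.cons_zero, Fin.cons_succ, h1]
      rw [if_neg (Fin.succ_ne_zero i')]
    · simp only [Fin.cons_succ, Fin.succ_inj]
      exact he' i' j'

end abs

end Cfsg.Agent.Helper10.PU
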