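import Mathlib
import Cfsg.Agent.Lib.Helper16.PUEDefs

/-! # S2263 PART E piece PUE-SINGER: a Singer cycle in `GL_k(F)` as a matrix. -/

set_option autoImplicit false

namespace Cfsg.Agent.Helper10.PU

open Matrix

universe u

section fin

variable {F : Type u} [Field F] [Fintype F] {q : ℕ}

theorem exists_singer (k : ℕ) (hk : 1 ≤ k) :
    ∃ S : Matrix (Fin k) (Fin k) F, S.det ≠ 0 ∧ orderOf S = Fintype.card F ^ k - 1 := by
  classical
  have : NeZero k := ⟨by omega⟩
  let p := ringChar F
  have : CharP F p := ringChar.charP F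
  have : Fact p.Prime := ⟨CharP.char_is_prime F p⟩
  let K := FiniteField.Extension F p k
  have hfr : Module.finrank F K = k := FiniteField.finrank_extension F p k
  have hcK : Nat.card K = Fintype.card F ^ k := by
    rw [FiniteField.natCard_extension, Nat.card_eq_fintype_card]
  obtain ⟨ζ, hζ⟩ := IsCyclic.exists_generator (α := Kˣ)
  have hζo : orderOf ζ = Fintype.card F ^ k - 1 := by
    rw [orderOf_eq_card_of_forall_mem_zpowers hζ, Nat.card_units, hcK]
  let b : Module.Basis (Fin k) F K := Module.finBasisOfFinrankEq F K hfr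
  let ψ := Algebra.leftMulMatrix b
  have hψinj : Function.Injective ψ := Algebra.leftMulMatrix_injective b
  refine ⟨ψ (ζ : K), ?_, ?_⟩
  · have h1 : ψ (ζ : K) * ψ ((ζ⁻¹ : Kˣ) : K) = 1 := by
      rw [← map_mul, Units.mul_inv, map_one]
    intro h0
    have := congrArg Matrix.det h1
    rw [Matrix.det_mul, h0, zero_mul, Matrix.det_one] at this
    exact zero_ne_one this
  · rw [← hζo, ← orderOf_units (y := ζ)]
    exact orderOf_injective (ψ : K →* Matrix (Fin k) (Fin k) F) hψinj (ζ : K)

end fin

end Cfsg.Agent.Helper10.PU
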