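import Mathlib

/-!
# S2263 PART E, PIECE PUE-TR (helper24): the trace of a field extension is semilinear for a pair of
compatible involutions
-/

set_option autoImplicit false

namespace Cfsg.Agent.Helper10.PU

universe u

section fld

variable {F : Type u} [Field F] (φ : F →+* F) {K : Type} [Field K] [Algebra F K]
  [FiniteDimensional F K]

/-! ### PUE-TR -/

theorem trace_semilinear (hφφ : ∀ x, φ (φ x) = x) (τ : K →+* K)
    (hτF : ∀ a : F, τ (algebraMap F K a) = algebraMap F K (φ a)) (hττ : ∀ x, τ (τ x) = x) (z : K) :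
    φ (Algebra.trace F K z) = Algebra.trace F K (τ z) := by
  let e₁ : F ≃+* F := RingEquiv.ofRingHom φ φ (RingHom.ext hφφ) (RingHom.ext hφφ)
  let e₂ : K ≃+* K := RingEquiv.ofRingHom τ τ (RingHom.ext hττ) (RingHom.ext hττ)
  have he : RingHom.comp (algebraMap F K) (e₁ : F →+* F) =
      RingHom.comp (e₂ : K →+* K) (algebraMap F K) := by
    ext a
    exact (hτF a).symm
  have h := Algebra.trace_eq_of_equiv_equiv e₁ e₂ he z
  rw [h]
  exact e₁.apply_symm_apply _

end fld

end Cfsg.Agent.Helper10.PU
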