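import Mathlib
import Cfsg.Agent.Lib.Helper11.UnitaryGeom
import Cfsg.Agent.Lib.Helper11.UnitaryGen
import Cfsg.Agent.Lib.Helper16.PUEDefs

/-!
# S2263 PART E piece PUE-UNI2 (helper22): a unitary transvection of order `q` in `U_2(q)`, `q` prime
-/

set_option autoImplicit false
set_option linter.unusedSectionVars false

namespace Cfsg.Agent.Helper10.PU

open Matrix Cfsg.Agent.Helper11.Herm

universe u

section fin

variable {F : Type u} [Field F] [Fintype F] {q : ℕ}

theorem pue_uni2_pow (φ : F →+* F) (v : Fin 2 → F) (c : F) (hv : hdot φ v v = 0) (k : ℕ) :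
    (tv φ v c) ^ k = tv φ v ((k : F) * c) := by
  induction k with
  | zero => rw [pow_zero, Nat.cast_zero, zero_mul, tv_zero_right]
  | succ k ih =>
    rw [pow_succ, ih, tv_mul_tv', hv, mul_zero, add_zero]
    congr 1
    push_cast
    ring

theorem exists_uni2 (hF : Fintype.card F = q ^ 2) (φ : F →+* F) (hφ : ∀ x, φ x = x ^ q)
    (hq : q.Prime) :
    ∃ D : Matrix (Fin 2) (Fin 2) F, IsU φ D ∧ orderOf D = q ∧ (D - 1) ^ 2 = 0 := by
  have hφφ : ∀ x, φ (φ x) = x := frob_frob hF φ hφ
  -- `t` with `t * φ t = -1`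
  obtain ⟨t, ht0, ht⟩ := frob_norm_surj hF φ hφ (-1) (neg_ne_zero.2 one_ne_zero)
    (by rw [map_neg, map_one])
  -- `c ≠ 0` with `c + φ c = 0`
  have hne := frob_ne_id hF φ hφ
  have hμ : ∃ μ : F, φ μ ≠ μ := by
    by_contra hcon
    push Not at hcon
    exact hne (RingHom.ext fun x => by simpa using hcon x)
  obtain ⟨μ, hμ⟩ := hμ
  set c : F := μ - φ μ with hc
  have hc0 : c ≠ 0 := by
    rw [hc]; exact sub_ne_zero.2 (Ne.symm hμ)
  have hcc : c + φ c = 0 := by
    rw [hc, map_sub, hφφ]; ring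
  set v : Fin 2 → F := ![1, t] with hvdef
  have hv : hdot φ v v = 0 := by
    rw [hdot_def, Fin.sum_univ_two]
    simp only [hvdef, Matrix.cons_val_zero, Matrix.cons_val_one, map_one, mul_one]
    rw [ht]; ring
  have hU : IsU φ (tv φ v c) := (isU_of_mem_TM φ hφφ (tv_mem_TM φ v c hv hcc)).1
  -- characteristic
  have hq0 : (q : F) = 0 := by
    have h1 : ((Fintype.card F : ℕ) : F) = 0 := FiniteField.cast_card_eq_zero F
    rw [hF] at h1
    push_cast at h1
    exact pow_eq_zero_iff (two_ne_zero) |>.1 h1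
  have hpow : (tv φ v c) ^ q = 1 := by
    rw [pue_uni2_pow φ v c hv, hq0, zero_mul, tv_zero_right]
  have hne1 : tv φ v c ≠ 1 := by
    intro h
    have h00 := congrFun (congrFun h 0) 0
    simp only [tv, Matrix.add_apply, Matrix.one_apply_eq, Matrix.smul_apply,
      Matrix.vecMulVec_apply, Function.comp_apply, smul_eq_mul, hvdef, Matrix.cons_val_zero,
      map_one, mul_one] at h00
    exact hc0 (by simpa using h00)
  have hord : orderOf (tv φ v c) = q := by
    have : Fact q.Prime := ⟨hq⟩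
    exact orderOf_eq_prime hpow hne1
  refine ⟨tv φ v c, hU, hord, ?_⟩
  have h2 : tv φ v c * tv φ v c = tv φ v (c + c) := by
    rw [tv_mul_tv', hv, mul_zero, add_zero]
  rw [pow_two, sub_mul, mul_sub, mul_sub, h2, one_mul, mul_one, mul_one]
  simp only [tv, add_smul]
  abel

end fin

end Cfsg.Agent.Helper10.PU
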