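import Mathlib
import Cfsg.Agent.Lib.Helper10.PUDefs

/-! # S2263 part E piece PUE-UNIP: a unipotent matrix with a scalar power has that scalar `= 1`. -/

set_option autoImplicit false

namespace Cfsg.Agent.Helper10.PU

open Matrix

universe u

section abs

variable {F : Type u} [Field F] (φ : F →+* F)

theorem eq_one_of_nilp {ι : Type} [Fintype ι] [DecidableEq ι] [Nonempty ι] (D : Matrix ι ι F)
    (m : ℕ) (hD : (D - 1) ^ m = 0) (k : ℕ) (c : F) (h : D ^ k = c • (1 : Matrix ι ι F)) : c = 1 := by
  have hgeo : D ^ k - 1 = (D - 1) * ∑ i ∈ Finset.range k, D ^ i := (mul_geom_sum D k).symm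
  have hcomm : Commute (D - 1) (∑ i ∈ Finset.range k, D ^ i) := by
    have h1 : Commute D (∑ i ∈ Finset.range k, D ^ i) :=
      Commute.sum_right _ _ _ (fun i _ => (Commute.refl D).pow_right i)
    exact (h1.sub_left (Commute.one_left _))
  have hz : (D ^ k - 1) ^ m = 0 := by
    rw [hgeo, hcomm.mul_pow, hD, zero_mul]
  have hc : D ^ k - 1 = (c - 1) • (1 : Matrix ι ι F) := by
    rw [h, sub_smul, one_smul]
  rw [hc, smul_pow, one_pow] at hz
  obtain ⟨i⟩ := (inferInstance : Nonempty ι)
  have := congrFun (congrFun hz i) i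
  simp only [Matrix.smul_apply, Matrix.one_apply_eq, smul_eq_mul, mul_one, Matrix.zero_apply] at this
  have h0 : c - 1 = 0 := pow_eq_zero_iff (n := m) (by
    rintro rfl
    simp at this) |>.mp this
  exact sub_eq_zero.mp h0

end abs

end Cfsg.Agent.Helper10.PU
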