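import Mathlib
import Cfsg.Agent.Lib.Helper10.PUDefs
import Cfsg.Agent.Lib.Helper11.UnitaryGeom
import Cfsg.Agent.Lib.Helper16.PUEDefs

/-!
# S2263 part E, piece PUE-ZETA (helper19): the field of degree `n` (odd) with its involution and an
element of order `q^n + 1` of norm one.
-/

set_option autoImplicit false
set_option linter.unusedSectionVars false
set_option linter.unusedVariables false

namespace Cfsg.Agent.Helper10.PU

open Matrix Cfsg.Agent.Helper11.Herm

universe u

section fin

variable {F : Type u} [Field F] [Fintype F] {q : ℕ}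

theorem exists_zeta_field (hF : Fintype.card F = q ^ 2) (φ : F →+* F) (hφ : ∀ x, φ x = x ^ q)
    (n : ℕ) (hn : Odd n) :
    ∃ (K : Type) (_ : Field K) (_ : Algebra F K) (_ : FiniteDimensional F K) (τ : K →+* K) (ζ : K),
      Module.finrank F K = n ∧ (∀ a : F, τ (algebraMap F K a) = algebraMap F K (φ a)) ∧
      (∀ x, τ (τ x) = x) ∧ ζ * τ ζ = 1 ∧ orderOf ζ = q ^ n + 1 := by
  classical
  obtain ⟨m, hm⟩ := hn
  have hn0 : NeZero n := ⟨by omega⟩
  have hcharF : CharP F (ringChar F) := ringChar.charP F
  have hpp : Fact (ringChar F).Prime := ⟨CharP.char_is_prime F (ringChar F)⟩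
  obtain ⟨N, hp, hN⟩ := FiniteField.card F (ringChar F)
  have hdvd : q ∣ (ringChar F) ^ (N : ℕ) := by
    rw [← hN, hF]
    exact Dvd.intro_left q (by ring)
  obtain ⟨j, -, hj⟩ := (Nat.dvd_prime_pow hp).1 hdvd
  have hq2 : 2 ≤ q := by
    have h1 : 1 < Fintype.card F := Fintype.one_lt_card
    rw [hF] at h1
    by_contra hlt
    have : q = 0 ∨ q = 1 := by omega
    rcases this with h | h <;> rw [h] at h1 <;> norm_num at h1
  have hfr : Module.finrank F (FiniteField.Extension F (ringChar F) n) = n :=
    FiniteField.finrank_extension F (ringChar F) n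
  have hcK : Nat.card (FiniteField.Extension F (ringChar F) n) = (q ^ n) ^ 2 := by
    rw [FiniteField.natCard_extension, Nat.card_eq_fintype_card, hF]
    ring
  have hcharK : CharP (FiniteField.Extension F (ringChar F) n) (ringChar F) :=
    charP_of_injective_algebraMap
      (algebraMap F (FiniteField.Extension F (ringChar F) n)).injective (ringChar F)
  have hfinK : Fintype (FiniteField.Extension F (ringChar F) n) := Fintype.ofFinite _
  have hcK' : Fintype.card (FiniteField.Extension F (ringChar F) n) = (q ^ n) ^ 2 := by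
    rw [← Nat.card_eq_fintype_card, hcK]
  have hτ : ∀ x : FiniteField.Extension F (ringChar F) n,
      iterateFrobenius (FiniteField.Extension F (ringChar F) n) (ringChar F) (j * n) x =
        x ^ (q ^ n) := by
    intro x
    rw [iterateFrobenius_def, pow_mul, ← hj]
  have hqn1 : 1 ≤ q ^ n := Nat.one_le_pow _ _ (by omega)
  have hqn2 : 2 ≤ q ^ n := by
    calc 2 ≤ q := hq2
      _ = q ^ 1 := (pow_one q).symm
      _ ≤ q ^ n := Nat.pow_le_pow_right (by omega) (by omega)
  -- the generator
  obtain ⟨g, hg⟩ := IsCyclic.exists_generator (α := (FiniteField.Extension F (ringChar F) n)ˣ)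
  have hgo : orderOf g = (q ^ n - 1) * (q ^ n + 1) := by
    rw [orderOf_eq_card_of_forall_mem_zpowers hg, Nat.card_units, hcK]
    have h1 : (q ^ n) ^ 2 = (q ^ n - 1) * (q ^ n + 1) + 1 := by
      obtain ⟨r, hr⟩ : ∃ r, q ^ n = r + 1 := ⟨q ^ n - 1, by omega⟩
      rw [hr]
      simp only [Nat.add_sub_cancel]
      ring
    omega
  have hζo : orderOf (g ^ (q ^ n - 1)) = q ^ n + 1 := by
    rw [orderOf_pow_of_dvd (by omega) (by rw [hgo]; exact dvd_mul_right _ _), hgo]
    exact Nat.mul_div_cancel_left _ (by omega)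
  refine ⟨FiniteField.Extension F (ringChar F) n, inferInstance, inferInstance, inferInstance,
    iterateFrobenius (FiniteField.Extension F (ringChar F) n) (ringChar F) (j * n),
    ((g ^ (q ^ n - 1) : (FiniteField.Extension F (ringChar F) n)ˣ) :
      FiniteField.Extension F (ringChar F) n), hfr, ?_, ?_, ?_, ?_⟩
  · intro a
    rw [hτ, ← map_pow, hφ]
    congr 1
    have h1 : q ^ n = (Fintype.card F) ^ m * q := by
      rw [hF, hm, ← pow_mul, ← pow_succ]
    rw [h1, pow_mul, FiniteField.pow_card_pow]
  · intro x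
    rw [hτ, hτ, ← pow_mul, ← sq, ← hcK', FiniteField.pow_card]
  · rw [hτ, ← pow_succ', ← Units.val_pow_eq_pow_val, ← hζo, pow_orderOf_eq_one, Units.val_one]
  · rw [orderOf_units, hζo]

end fin

end Cfsg.Agent.Helper10.PU
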