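import Mathlib
import Cfsg.Agent.Lib.Helper11.Unitary

/-!
# S2263 PART E, PIECE PUE-UNI3 (helper6, for helper16): a unipotent element of order `4` in `U_3(2)`,
the Fourier matrix `!![1,1,1; 1,w,w^2; 1,w^2,w]` over the field with four elements.
-/

set_option autoImplicit false
set_option linter.unusedSectionVars false
set_option linter.unusedVariables false

namespace Cfsg.Agent.Helper10.PU

open Matrix Cfsg.Agent.Helper11.Herm

universe u

section fin

variable {F : Type u} [Field F] [Fintype F] {q : ℕ}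

/-- a primitive cube root of unity in the field with four elements, and `2 = 0`. -/
theorem pue_uni3_omega (hF : Fintype.card F = 2 ^ 2) :
    (2 : F) = 0 ∧ ∃ w : F, w ^ 2 + w + 1 = 0 := by
  classical
  have h4 : ((Fintype.card F : ℕ) : F) = 0 := FiniteField.cast_card_eq_zero F
  have h2 : (2 : F) = 0 := by
    rw [hF] at h4
    have h5 : (2 : F) ^ 2 = 0 := by
      push_cast at h4
      rw [← h4]; norm_num
    exact (pow_eq_zero_iff (two_ne_zero)).mp h5
  refine ⟨h2, ?_⟩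
  have hex : ∃ w : F, w ≠ 0 ∧ w ≠ 1 := by
    by_contra hcon
    push Not at hcon
    have hsub : (Finset.univ : Finset F) ⊆ {0, 1} := by
      intro x _
      by_cases hx : x = 0
      · simp [hx]
      · simp [hcon x hx]
    have hle := Finset.card_le_card hsub
    rw [Finset.card_univ, hF] at hle
    have h3 : ({0, 1} : Finset F).card ≤ 2 := Finset.card_le_two
    omega
  obtain ⟨w, hw0, hw1⟩ := hex
  refine ⟨w, ?_⟩
  have h3 : w ^ 3 = 1 := by
    have := FiniteField.pow_card_sub_one_eq_one w hw0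
    rw [hF] at this
    exact this
  have hfac : (w - 1) * (w ^ 2 + w + 1) = 0 := by
    have : (w - 1) * (w ^ 2 + w + 1) = w ^ 3 - 1 := by ring
    rw [this, h3, sub_self]
  rcases mul_eq_zero.mp hfac with h | h
  · exact absurd (sub_eq_zero.mp h) hw1
  · exact h

theorem pue_uni3_sq (w : F) (hw : w ^ 2 + w + 1 = 0) (h2 : (2 : F) = 0) :
    (!![1,1,1; 1,w,w^2; 1,w^2,w] : Matrix (Fin 3) (Fin 3) F) * !![1,1,1; 1,w,w^2; 1,w^2,w]
      = !![1,0,0; 0,0,1; 0,1,0] := by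
  ext i j
  fin_cases i <;> fin_cases j <;> simp [Matrix.mul_apply, Fin.sum_univ_three] <;> grind

theorem pue_uni3_perm_sq :
    (!![1,0,0; 0,0,1; 0,1,0] : Matrix (Fin 3) (Fin 3) F) * !![1,0,0; 0,0,1; 0,1,0] = 1 := by
  ext i j
  fin_cases i <;> fin_cases j <;> simp [Matrix.mul_apply, Fin.sum_univ_three]

theorem pue_uni3_isU (w : F) (hw : w ^ 2 + w + 1 = 0) (h2 : (2 : F) = 0) (φ : F →+* F)
    (hφ : ∀ x, φ x = x ^ 2) :
    IsU φ (!![1,1,1; 1,w,w^2; 1,w^2,w] : Matrix (Fin 3) (Fin 3) F) := by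
  unfold IsU
  ext i j
  fin_cases i <;> fin_cases j <;>
    simp [Matrix.mul_apply, Fin.sum_univ_three, hφ] <;> grind

theorem pue_uni3_nilp (w : F) (hw : w ^ 2 + w + 1 = 0) (h2 : (2 : F) = 0) :
    ((!![1,1,1; 1,w,w^2; 1,w^2,w] : Matrix (Fin 3) (Fin 3) F) - 1) ^ 3 = 0 := by
  have hN : (!![1,1,1; 1,w,w^2; 1,w^2,w] : Matrix (Fin 3) (Fin 3) F) - 1
      = !![0,1,1; 1,w^2,w^2; 1,w^2,w^2] := by
    ext i j
    fin_cases i <;> fin_cases j <;> simp <;> grind
  have hN2 : (!![0,1,1; 1,w^2,w^2; 1,w^2,w^2] : Matrix (Fin 3) (Fin 3) F) *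
      !![0,1,1; 1,w^2,w^2; 1,w^2,w^2] = !![0,0,0; 0,1,1; 0,1,1] := by
    ext i j
    fin_cases i <;> fin_cases j <;> simp [Matrix.mul_apply, Fin.sum_univ_three] <;> grind
  have hN3 : (!![0,0,0; 0,1,1; 0,1,1] : Matrix (Fin 3) (Fin 3) F) *
      !![0,1,1; 1,w^2,w^2; 1,w^2,w^2] = 0 := by
    ext i j
    fin_cases i <;> fin_cases j <;> simp [Matrix.mul_apply, Fin.sum_univ_three] <;> grind
  rw [hN, pow_succ, pow_two, hN2, hN3]

/-- PIECE PUE-UNI3. -/
theorem exists_uni3 (hF : Fintype.card F = 2 ^ 2) (φ : F →+* F) (hφ : ∀ x, φ x = x ^ 2) :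
    ∃ D : Matrix (Fin 3) (Fin 3) F, IsU φ D ∧ orderOf D = 4 ∧ (D - 1) ^ 3 = 0 := by
  obtain ⟨h2, w, hw⟩ := pue_uni3_omega hF
  refine ⟨!![1,1,1; 1,w,w^2; 1,w^2,w], pue_uni3_isU w hw h2 φ hφ, ?_, pue_uni3_nilp w hw h2⟩
  have hsq := pue_uni3_sq w hw h2
  have h4 : (4 : ℕ) = 2 ^ (1 + 1) := by norm_num
  rw [h4]
  apply orderOf_eq_prime_pow
  · rw [pow_one, pow_two, hsq]
    intro h
    have := congrFun (congrFun h 1) 1
    simp at this
  · have : (2 : ℕ) ^ (1 + 1) = 2 * 2 := by norm_num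
    rw [this, pow_mul, pow_two (!![1,1,1; 1,w,w^2; 1,w^2,w] : Matrix (Fin 3) (Fin 3) F), hsq,
      pow_two, pue_uni3_perm_sq]

end fin

end Cfsg.Agent.Helper10.PU
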